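import Mathlib
import Cfsg.Agent.Lib.Zsigmondy
import Cfsg.Agent.H951.Lin
import Cfsg.Agent.FastGrp
import Cfsg.Agent.Prune
set_option linter.all false

section
prune_inst 0x7f00000000000000000000000000000000000000000000000000000000000000000000000000000000000000000000000000000000000000000000000000000000000000000000000000000000000000003fffffffffffffffffffffffffffbeffbdffffffff

-- part: H899/Cyc/Defs
section
set_option linter.all false
open scoped Cfsg.Agent.FastGrp

/-!
# Cyclic primes of a finite group (helper899, for S3679 and S3561)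

`T` is a finite (non-abelian simple) group, `u` a prime.

* `CycW T u` : `u` is a prime divisor of `|T|` and `T` has no subgroup `C_u × C_u`;
* `Cyc T u`  : `CycW T u` and moreover `u ∤ |Out T|` or `u² ∤ |T|`;
* `CGap T M` : some `Cyc` prime of `T` does not divide `|M|`;
* `CGapW T M`: some `CycW` prime of `T` does not divide `|M|`.

For primes `u` which are primitive over the prime field (order of `p` modulo `u` is `e f`), `u > e f` and `u` is prime to
`|Out T|`.

* S3679: `T = A B`, `A ≅ S^l`, `l ≥ 2`: `¬ u ∣ |A|` for every `CycW` prime (`CycW.not_dvd_of_pow`), so `|T|_u ∣ |B|`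
  and `¬ CGapW T B` (`not_cGapW_of_fac`).
* S3561: `A` abelian regular with non-cyclic Sylow subgroups.
-/

set_option autoImplicit false

namespace Cfsg.Agent.H899.CG

open Subgroup

/-- `u` is a prime divisor of `|T|` and `T` has no subgroup `C_u × C_u` -/
def CycW (T : Type*) [Group T] (u : ℕ) : Prop :=
  u.Prime ∧ u ∣ Nat.card T ∧ ∀ x y : T, orderOf x = u → orderOf y = u → x * y = y * x → y ∈ zpowers x

/-- `CycW`, and `u ∤ |Out T|` or `u` divides `|T|` only once -/
def Cyc (T : Type*) [Group T] (u : ℕ) : Prop :=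
  CycW T u ∧ (¬ u ∣ (MulAut.conj : T →* MulAut T).range.index ∨ ¬ u ^ 2 ∣ Nat.card T)

/-- some cyclic prime of `T` does not divide `|M|` -/
def CGap (T : Type*) [Group T] (M : Subgroup T) : Prop := ∃ u, Cyc T u ∧ ¬ u ∣ Nat.card M

/-- some weakly cyclic prime of `T` does not divide `|M|` -/
def CGapW (T : Type*) [Group T] (M : Subgroup T) : Prop := ∃ u, CycW T u ∧ ¬ u ∣ Nat.card M

/-- every coatom has a gap -/
def CGapMax (T : Type*) [Group T] : Prop := ∀ M : Subgroup T, IsCoatom M → CGap T M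

/-- every coatom has a weak gap -/
def CGapMaxW (T : Type*) [Group T] : Prop := ∀ M : Subgroup T, IsCoatom M → CGapW T M

section basic

variable {T : Type*} [Group T] {M K : Subgroup T} {u : ℕ}

theorem CGap.weak (h : CGap T M) : CGapW T M := by
  obtain ⟨u, hu, hd⟩ := h
  exact ⟨u, hu.1, hd⟩

theorem CGapMax.weak (h : CGapMax T) : CGapMaxW T := fun M hM => (h M hM).weak

theorem CGap.mono [Finite T] (h : CGap T K) (hMK : M ≤ K) : CGap T M := by
  obtain ⟨u, hu, hd⟩ := h
  exact ⟨u, hu, fun h => hd (h.trans (Subgroup.card_dvd_of_le hMK))⟩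

theorem CGapW.mono [Finite T] (h : CGapW T K) (hMK : M ≤ K) : CGapW T M := by
  obtain ⟨u, hu, hd⟩ := h
  exact ⟨u, hu, fun h => hd (h.trans (Subgroup.card_dvd_of_le hMK))⟩

theorem dvd_of_not_cGap (h : ¬ CGap T M) (hu : Cyc T u) : u ∣ Nat.card M := by
  by_contra hd
  exact h ⟨u, hu, hd⟩

/-- `u` divides `|T|` exactly once -/
theorem cyc_of_sq [Finite T] (hu : u.Prime) (hd : u ∣ Nat.card T) (h2 : ¬ u ^ 2 ∣ Nat.card T) : Cyc T u := by
  refine ⟨⟨hu, hd, fun x y hx hy hxy => ?_⟩, Or.inr h2⟩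
  by_contra hn
  apply h2
  have : Fact u.Prime := ⟨hu⟩
  -- the subgroup generated by `x` and `y`
  have h1 : Disjoint (zpowers x) (zpowers y) := by
    rw [disjoint_iff]
    by_contra hne
    have h3 : Nat.card (zpowers x ⊓ zpowers y : Subgroup T) ∣ u := by
      rw [← hy, ← Nat.card_zpowers]
      exact Subgroup.card_dvd_of_le inf_le_right
    rcases (Nat.dvd_prime hu).mp h3 with h4 | h4
    · exact hne (Subgroup.card_eq_one.mp h4)
    · have h5 : (zpowers x ⊓ zpowers y : Subgroup T) = zpowers y := by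
        refine Subgroup.eq_of_le_of_card_ge inf_le_right ?_
        rw [Nat.card_zpowers, hy, h4]
      exact hn ((inf_eq_right.mp h5) (mem_zpowers y))
  have hcomm : ∀ (a : zpowers x) (b : zpowers y), Commute (a : T) (b : T) := by
    rintro ⟨a, ha⟩ ⟨b, hb⟩
    obtain ⟨i, rfl⟩ := mem_zpowers_iff.mp ha
    obtain ⟨j, rfl⟩ := mem_zpowers_iff.mp hb
    exact Commute.zpow_zpow (show Commute x y from hxy) i j
  let φ : zpowers x × zpowers y →* T :=
    MonoidHom.noncommCoprod (zpowers x).subtype (zpowers y).subtype hcomm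
  have hφ : Function.Injective φ := by
    rw [injective_iff_map_eq_one]
    rintro ⟨⟨a, ha⟩, ⟨b, hb⟩⟩ hab
    have hab' : a * b = 1 := hab
    have hb' : b⁻¹ = a := (eq_inv_of_mul_eq_one_left hab').symm
    have h7 : a ∈ zpowers y := hb' ▸ inv_mem hb
    have h8 : a = 1 := by
      have := (Subgroup.disjoint_def.mp h1) ha h7
      exact this
    subst h8
    have h9 : b = 1 := by simpa using hab'
    subst h9
    rfl
  have h6 : Nat.card (zpowers x × zpowers y) ∣ Nat.card T := Subgroup.card_dvd_of_injective φ hφ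
  rwa [Nat.card_prod, Nat.card_zpowers, Nat.card_zpowers, hx, hy, ← pow_two] at h6

end basic

section congr

variable {T S : Type*} [Group T] [Group S]

theorem CycW.congr (e : T ≃* S) {u : ℕ} (h : CycW T u) : CycW S u := by
  obtain ⟨h1, h2, h3⟩ := h
  refine ⟨h1, ?_, fun x y hx hy hxy => ?_⟩
  · rwa [← Nat.card_congr e.toEquiv]
  · have ho : ∀ z : S, orderOf (e.symm z) = orderOf z := fun z => orderOf_injective e.symm.toMonoidHom e.symm.injective z
    have := h3 (e.symm x) (e.symm y) (by rw [ho, hx]) (by rw [ho, hy]) (by rw [← map_mul, hxy, map_mul])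
    obtain ⟨i, hi⟩ := mem_zpowers_iff.mp this
    refine mem_zpowers_iff.mpr ⟨i, ?_⟩
    apply e.symm.injective
    rw [map_zpow, hi]

theorem outIndex_congr (e : T ≃* S) :
    (MulAut.conj : T →* MulAut T).range.index = (MulAut.conj : S →* MulAut S).range.index := by
  have h : ((MulAut.conj : S →* MulAut S).range).comap (MulAut.congr e).toMonoidHom =
      (MulAut.conj : T →* MulAut T).range := by
    ext a
    constructor
    · rintro ⟨s, hs⟩
      refine ⟨e.symm s, ?_⟩
      apply (MulAut.congr e).injective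
      refine Eq.trans ?_ hs
      ext z
      simp [MulAut.congr]
    · rintro ⟨t, rfl⟩
      refine ⟨e t, ?_⟩
      ext z
      simp [MulAut.congr]
  rw [← h]
  exact Subgroup.index_comap_of_surjective _ (MulAut.congr e).surjective

theorem Cyc.congr (e : T ≃* S) {u : ℕ} (h : Cyc T u) : Cyc S u := by
  refine ⟨h.1.congr e, ?_⟩
  rw [← outIndex_congr e, ← Nat.card_congr e.toEquiv]
  exact h.2

theorem card_comap (e : T ≃* S) (K : Subgroup S) :
    Nat.card (K.comap e.toMonoidHom) = Nat.card K :=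
  Nat.card_congr (e.subgroupMap _ |>.toEquiv.trans (MulEquiv.subgroupCongr
    (Subgroup.map_comap_eq_self_of_surjective (f := e.toMonoidHom) e.surjective K)).toEquiv)

theorem CGap.congr {K : Subgroup S} (e : T ≃* S) (h : CGap T (K.comap e.toMonoidHom)) : CGap S K := by
  obtain ⟨u, h1, h2⟩ := h
  exact ⟨u, h1.congr e, by rwa [card_comap] at h2⟩

theorem CGapW.congr {K : Subgroup S} (e : T ≃* S) (h : CGapW T (K.comap e.toMonoidHom)) : CGapW S K := by
  obtain ⟨u, h1, h2⟩ := h
  exact ⟨u, h1.congr e, by rwa [card_comap] at h2⟩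

theorem isCoatom_comap {K : Subgroup S} (e : T ≃* S) (hK : IsCoatom K) : IsCoatom (K.comap e.toMonoidHom) := by
  have h1 : K.comap e.toMonoidHom = (e.symm.mapSubgroup) K := by
    ext x
    simp only [Subgroup.mem_comap, MulEquiv.coe_toMonoidHom, MulEquiv.coe_mapSubgroup, Subgroup.mem_map]
    constructor
    · intro h; exact ⟨e x, h, by simp⟩
    · rintro ⟨y, hy, rfl⟩; simpa using hy
  rw [h1]
  exact (OrderIso.isCoatom_iff (e.symm.mapSubgroup) K).mpr hK

theorem CGapMax.congr (e : T ≃* S) (h : CGapMax T) : CGapMax S :=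
  fun _ hM => (h _ (isCoatom_comap e hM)).congr e

theorem CGapMaxW.congr (e : T ≃* S) (h : CGapMaxW T) : CGapMaxW S :=
  fun _ hM => (h _ (isCoatom_comap e hM)).congr e

end congr

section factor

variable {T : Type*} [Group T] [Finite T]

omit [Finite T] in
/-- a weakly cyclic prime does not divide the order of a direct power `S^l`, `l ≥ 2` -/
theorem CycW.not_dvd_of_pow {u : ℕ} (h : CycW T u) {S : Type*} [Group S] [Finite S] {l : ℕ} (hl : 2 ≤ l)
    {A : Subgroup T} (e : A ≃* (Fin l → S)) : ¬ u ∣ Nat.card A := by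
  intro hd
  obtain ⟨hu, -, hc⟩ := h
  have : Fact u.Prime := ⟨hu⟩
  have h1 : u ∣ Nat.card S := by
    rw [Nat.card_congr e.toEquiv, Nat.card_pi] at hd
    simp only [Finset.prod_const, Finset.card_univ, Fintype.card_fin] at hd
    exact hu.dvd_of_dvd_pow hd
  obtain ⟨s, hs⟩ := exists_prime_orderOf_dvd_card' u h1
  have hs1 : s ≠ 1 := by
    intro h
    rw [h, orderOf_one] at hs
    exact hu.one_lt.ne hs
  let i : Fin l := ⟨0, by omega⟩
  let j : Fin l := ⟨1, by omega⟩
  have hij : i ≠ j := by simp [i, j]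
  let x : Fin l → S := Pi.mulSingle (M := fun _ => S) i s
  let y : Fin l → S := Pi.mulSingle (M := fun _ => S) j s
  have hxy : x * y = y * x := Pi.mulSingle_commute (f := fun _ : Fin l => S) hij s s
  have hx : orderOf x = u := by
    rw [← hs]
    exact orderOf_injective (MonoidHom.mulSingle (fun _ : Fin l => S) i)
      (Pi.mulSingle_injective (M := fun _ => S) i) s
  have hy : orderOf y = u := by
    rw [← hs]
    exact orderOf_injective (MonoidHom.mulSingle (fun _ : Fin l => S) j)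
      (Pi.mulSingle_injective (M := fun _ => S) j) s
  have ho : ∀ z : Fin l → S, orderOf ((e.symm z : A) : T) = orderOf z := by
    intro z
    rw [Subgroup.orderOf_coe]
    exact orderOf_injective e.symm.toMonoidHom e.symm.injective z
  have h2 := hc (e.symm x : A) (e.symm y : A) (by rw [ho, hx]) (by rw [ho, hy])
    (by rw [← Subgroup.coe_mul, ← map_mul, hxy, map_mul, Subgroup.coe_mul])
  obtain ⟨k, hk⟩ := mem_zpowers_iff.mp h2
  rw [← Subgroup.coe_zpow, ← map_zpow] at hk
  have h3 : x ^ k = y := e.symm.injective (Subtype.val_injective hk)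
  have h4 := congrFun h3 j
  rw [Pi.pow_apply] at h4
  have h5 : x j = 1 := Pi.mulSingle_eq_of_ne (M := fun _ => S) hij.symm s
  have h6 : y j = s := Pi.mulSingle_eq_same (M := fun _ => S) j s
  rw [h5, h6, one_zpow] at h4
  exact hs1 h4.symm

omit [Finite T] in
theorem card_dvd_mul_of_fac {A B : Subgroup T} (hAB : ∀ t : T, ∃ x ∈ A, ∃ y ∈ B, t = x * y) :
    B.index ∣ Nat.card A := by
  classical
  -- `A` acts transitively on `T ⧸ B`
  have h1 : MulAction.orbit A ((1 : T) : T ⧸ B) = Set.univ := by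
    ext z
    simp only [Set.mem_univ, iff_true]
    induction z using QuotientGroup.induction_on with
    | H t =>
      obtain ⟨x, hx, y, hy, rfl⟩ := hAB t
      refine ⟨⟨x, hx⟩, ?_⟩
      show ((x • (1 : T) : T) : T ⧸ B) = _
      rw [smul_eq_mul, mul_one]
      exact QuotientGroup.eq.mpr (by simpa using hy)
  have h2 := Subgroup.index_dvd_card (MulAction.stabilizer A ((1 : T) : T ⧸ B))
  rw [MulAction.index_stabilizer, h1, Set.ncard_univ] at h2
  exact h2

end factor

end Cfsg.Agent.H899.CG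
end

-- part: H947/Cyc/Basic
section
set_option linter.all false
open scoped Cfsg.Agent.FastGrp

/-!
# Cyclic primes (helper947, for S3561 and S3679): tools

* `mem_zpowers_of_cyclic` : elements of the same prime order of a cyclic group;
* `cycW_of_sylow` : a prime whose Sylow subgroups are cyclic;
* `cycW_of_cc` : a prime whose elements have cyclic centralisers.
-/

set_option autoImplicit false

namespace Cfsg.Agent.H947.Cyc

open Subgroup Cfsg.Agent.H899.CG

theorem mem_zpowers_of_cyclic {T : Type*} [Group T] [Finite T] {C : Subgroup T} (hC : IsCyclic C) {x y : T} {u : ℕ}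
    (hxC : x ∈ C) (hyC : y ∈ C) (hx : orderOf x = u) (hy : orderOf y = u) : y ∈ zpowers x := by
  classical
  have hu : 0 < u := by rw [← hx]; exact orderOf_pos x
  have : Fintype C := Fintype.ofFinite C
  by_contra hcon
  have h1 := IsCyclic.card_pow_eq_one_le (α := C) hu
  set x' : C := ⟨x, hxC⟩ with hx'
  set y' : C := ⟨y, hyC⟩ with hy'
  have hxo : orderOf x' = u := by rw [hx', Subgroup.orderOf_mk]; exact hx
  have hyo : orderOf y' = u := by rw [hy', Subgroup.orderOf_mk]; exact hy
  have hcon' : y' ∉ zpowers x' := by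
    intro h2
    apply hcon
    obtain ⟨k, hk⟩ := mem_zpowers_iff.1 h2
    refine mem_zpowers_iff.2 ⟨k, ?_⟩
    have := congrArg Subtype.val hk
    simpa using this
  have h2 : insert y' (Finset.univ.filter fun c : C => c ∈ zpowers x') ⊆ Finset.univ.filter fun c : C => c ^ u = 1 := by
    intro c hc
    rw [Finset.mem_filter]
    refine ⟨Finset.mem_univ _, ?_⟩
    rcases Finset.mem_insert.1 hc with rfl | hc
    · rw [← hyo, pow_orderOf_eq_one]
    · obtain ⟨k, rfl⟩ := mem_zpowers_iff.1 (Finset.mem_filter.1 hc).2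
      rw [← zpow_natCast, ← zpow_mul, mul_comm, zpow_mul, zpow_natCast, ← hxo, pow_orderOf_eq_one, one_zpow]
  have h3 := Finset.card_le_card h2
  rw [Finset.card_insert_of_notMem (by
    rw [Finset.mem_filter]
    exact fun h => hcon' h.2)] at h3
  have h4 : (Finset.univ.filter fun c : C => c ∈ zpowers x').card = u := by
    rw [← hxo, ← Nat.card_zpowers, Nat.card_eq_fintype_card, Fintype.card_subtype]
  omega

/-- cyclic Sylow subgroups -/
theorem cycW_of_sylow {T : Type*} [Group T] [Finite T] {u : ℕ} [hu : Fact u.Prime] (hd : u ∣ Nat.card T)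
    (h : ∀ P : Sylow u T, IsCyclic (P : Subgroup T)) : CycW T u := by
  refine ⟨hu.out, hd, fun x y hx hy hxy => ?_⟩
  have hcomm : ∀ (a : zpowers x) (b : zpowers y), Commute (a : T) (b : T) := by
    rintro ⟨a, ha⟩ ⟨b, hb⟩
    obtain ⟨i, rfl⟩ := mem_zpowers_iff.mp ha
    obtain ⟨j, rfl⟩ := mem_zpowers_iff.mp hb
    exact Commute.zpow_zpow (show Commute x y from hxy) i j
  let φ : zpowers x × zpowers y →* T :=
    MonoidHom.noncommCoprod (zpowers x).subtype (zpowers y).subtype hcomm
  have hp : IsPGroup u (zpowers x × zpowers y) := by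
    apply IsPGroup.of_card (n := 2)
    rw [Nat.card_prod, Nat.card_zpowers, Nat.card_zpowers, hx, hy, pow_two]
  have hr : IsPGroup u φ.range := hp.of_surjective φ.rangeRestrict φ.rangeRestrict_surjective
  obtain ⟨P, hP⟩ := hr.exists_le_sylow
  refine mem_zpowers_of_cyclic (h P) (hP ⟨(⟨x, mem_zpowers x⟩, 1), ?_⟩) (hP ⟨(1, ⟨y, mem_zpowers y⟩), ?_⟩) hx hy
  · exact mul_one x
  · exact one_mul y

end Cfsg.Agent.H947.Cyc
end

-- part: H884/CgLin
section
set_option linter.all false
open scoped Cfsg.Agent.FastGrp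

/-!
# Cyclic primes of linear groups (for the CGap rows of S3561 and S3679)

* `exists_fixed`  : two commuting operators of order dividing a prime `r` on a non-zero space: some `x * y ^ i` or `y`
  has a non-zero fixed vector;
* `no_rank_two`   : if all the non-trivial elements of `⟨x, y⟩` have a commutator space of dimension `d ≤ 2 e`
  (`e` the least dimension of a fixed point free operator of order `r`), then `⟨x, y⟩` is cyclic;
* `cycW_of`       : `G → T` surjective with central kernel of order prime to `r`, `G` a group of operators in which all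
  the elements of order `r` have commutator spaces of dimension `d ≤ 2 e`: `CycW T r`.
-/

set_option autoImplicit false

namespace Cfsg.Agent.H884.Cg

open Module Cfsg.Agent.H951 Cfsg.Agent.H899.CG

section Lin

variable {F : Type*} [Field F] {V : Type*} [AddCommGroup V] [Module F V] {x y : Module.End F V} {r : ℕ}

theorem avg_eq_zero (hx : x ^ r = 1) {W : Submodule F V} (hW : _root_.Cfsg.Agent.H951.Inv x W) (h : W ⊓ fx x = ⊥) {w : V} (hw : w ∈ W) :
    avg x r w = 0 := by
  have h1 : avg x r w ∈ W ⊓ fx x := by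
    refine ⟨?_, ?_⟩
    · rw [avg, LinearMap.sum_apply]
      exact Submodule.sum_mem _ fun j _ => hW.pow j w hw
    · exact LinearMap.mem_ker.2 (LinearMap.congr_fun (sub_one_mul_avg hx) w)
  rwa [h, Submodule.mem_bot] at h1

theorem fx_pow_le (hr : r.Prime) (hy : y ^ r = 1) {j : ℕ} (h0 : 0 < j) (hj : j < r) : fx (y ^ j) ≤ fx y := by
  intro v hv
  rw [mem_fx] at hv ⊢
  have hco : Nat.Coprime j r := Nat.Coprime.symm ((hr.coprime_iff_not_dvd).2 fun h => by
    have := Nat.le_of_dvd h0 h
    omega)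
  obtain ⟨l, -, hl⟩ := Nat.exists_mul_mod_eq_one_of_coprime hco hr.one_lt
  have h1 : (y ^ j) ^ l = y := by
    rw [← pow_mul, ← Nat.div_add_mod (j * l) r, hl, pow_add, pow_mul, hy, one_pow, one_mul, pow_one]
  have h2 := pow_fx hv l
  rwa [h1] at h2

theorem Inv.mul {W : Submodule F V} (hx : _root_.Cfsg.Agent.H951.Inv x W) (hy : _root_.Cfsg.Agent.H951.Inv y W) : _root_.Cfsg.Agent.H951.Inv (x * y) W := fun w hw => by
  rw [Module.End.mul_apply]
  exact hx _ (hy w hw)

theorem inv_cm_of_commute (h : Commute x y) : _root_.Cfsg.Agent.H951.Inv x (cm y) := by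
  intro v hv
  obtain ⟨w, rfl⟩ := mem_cm.1 hv
  refine mem_cm.2 ⟨x w, ?_⟩
  rw [map_sub]
  have : x (y w) = y (x w) := LinearMap.congr_fun h.eq w
  rw [this]

theorem inv_fx_of_commute (h : Commute x y) : _root_.Cfsg.Agent.H951.Inv x (fx y) := by
  intro v hv
  rw [mem_fx] at hv ⊢
  have : x (y v) = y (x v) := LinearMap.congr_fun h.eq v
  rw [← this, hv]

/-- two commuting operators of order dividing a prime -/
theorem exists_fixed (hr : r.Prime) (h0 : (r : F) ≠ 0) (hx : x ^ r = 1) (hy : y ^ r = 1) (hxy : Commute x y)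
    {W : Submodule F V} (hWx : _root_.Cfsg.Agent.H951.Inv x W) (hWy : _root_.Cfsg.Agent.H951.Inv y W) (hW : W ≠ ⊥) (hfy : W ⊓ fx y = ⊥) :
    ∃ i < r, W ⊓ fx (x * y ^ i) ≠ ⊥ := by
  by_contra hcon
  push Not at hcon
  apply hW
  rw [eq_bot_iff]
  intro w hw
  rw [Submodule.mem_bot]
  -- the double sum
  have h1 : ∀ i ∈ Finset.range r, avg (x * y ^ i) r w = 0 := by
    intro i hi
    have hc : Commute x (y ^ i) := hxy.pow_right i
    refine avg_eq_zero ?_ (Inv.mul hWx (hWy.pow i)) (hcon i (Finset.mem_range.1 hi)) hw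
    rw [hc.mul_pow, hx, ← pow_mul, mul_comm i r, pow_mul, hy, one_pow, one_mul]
  have h2 : ∑ i ∈ Finset.range r, avg (x * y ^ i) r w = 0 := Finset.sum_eq_zero h1
  have h3 : ∑ i ∈ Finset.range r, avg (x * y ^ i) r w
      = ∑ j ∈ Finset.range r, (x ^ j) (avg (y ^ j) r w) := by
    simp only [avg, LinearMap.sum_apply, map_sum]
    rw [Finset.sum_comm]
    refine Finset.sum_congr rfl fun j _ => Finset.sum_congr rfl fun i _ => ?_
    have hc : Commute x (y ^ i) := hxy.pow_right i
    rw [hc.mul_pow, Module.End.mul_apply, ← pow_mul, ← pow_mul, mul_comm i j]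
  have h4 : ∑ j ∈ Finset.range r, (x ^ j) (avg (y ^ j) r w) = (r : F) • w := by
    have hpos : 0 < r := hr.pos
    rw [← Nat.sub_add_cancel hpos, Finset.sum_range_succ']
    rw [Finset.sum_eq_zero, zero_add, Nat.sub_add_cancel hpos]
    · rw [pow_zero, pow_zero, Module.End.one_apply]
      exact avg_of_fx (Module.End.one_apply w)
    · intro j hj
      have hj' := Finset.mem_range.1 hj
      have hyj : (y ^ (j + 1)) ^ r = 1 := by rw [← pow_mul, mul_comm, pow_mul, hy, one_pow]
      rw [Nat.sub_add_cancel hpos, avg_eq_zero hyj (hWy.pow _) ?_ hw, map_zero]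
      rw [eq_bot_iff, ← hfy]
      exact inf_le_inf_left W (fx_pow_le hr hy (by omega) (by omega))
  rw [h3, h4] at h2
  exact (smul_eq_zero.1 h2).resolve_left h0

/-- **No subgroup `C_r × C_r`.** -/
theorem no_rank_two [FiniteDimensional F V] (hr : r.Prime) (h2 : 2 < r) (h0 : (r : F) ≠ 0) (hx : x ^ r = 1)
    (hy : y ^ r = 1) (hxy : Commute x y) {d e : ℕ} (he : 0 < e) (hde : d ≤ 2 * e)
    (hd : ∀ i j : ℕ, x ^ i * y ^ j ≠ 1 → finrank F (cm (x ^ i * y ^ j)) = d)
    (hU : ∀ U : Submodule F V, _root_.Cfsg.Agent.H951.Inv y U → U ⊓ fx y = ⊥ → U ≠ ⊥ → e ≤ finrank F U)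
    (hy1 : y ≠ 1) (hxy1 : ∀ i : ℕ, x * y ^ i ≠ 1) : False := by
  have hcy : cm y ≠ ⊥ := by
    intro h
    apply hy1
    exact sub_eq_zero.1 (LinearMap.range_eq_bot.1 h)
  have hcfy : cm y ⊓ fx y = ⊥ := by
    rw [inf_comm]; exact (isCompl_fx_cm h0 hy).inf_eq_bot
  obtain ⟨i, -, hi⟩ := exists_fixed hr h0 hx hy hxy (inv_cm_of_commute hxy) inv_cm hcy hcfy
  set z := x * y ^ i with hz
  have hcxi : Commute x (y ^ i) := hxy.pow_right i
  have hz1 : z ≠ 1 := hxy1 i
  have hzr : z ^ r = 1 := by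
    rw [hz, hcxi.mul_pow, hx, ← pow_mul, mul_comm i r, pow_mul, hy, one_pow, one_mul]
  have hzy : Commute z y := hxy.mul_left (Commute.refl y |>.pow_left i)
  have hzk : ∀ k, z ^ k = x ^ k * y ^ (i * k) := by
    intro k
    rw [hz, hcxi.mul_pow, ← pow_mul]
  set U := cm y ⊓ fx z with hUdef
  have hUy : _root_.Cfsg.Agent.H951.Inv y U := inv_cm.inf (inv_fx_of_commute hzy.symm)
  have hUf : U ⊓ fx y = ⊥ := by
    rw [eq_bot_iff, ← hcfy]
    exact inf_le_inf_right _ inf_le_left
  have hUe := hU U hUy hUf hi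
  -- the elements `a k = z ^ k * y`
  have har : ∀ k, (z ^ k * y) ^ r = 1 := by
    intro k
    rw [(hzy.pow_left k).mul_pow, hy, ← pow_mul, mul_comm k r, pow_mul, hzr, one_pow, one_mul]
  have haU : ∀ k, ∀ u ∈ U, (z ^ k * y) u = y u := by
    intro k u hu
    rw [Module.End.mul_apply]
    exact pow_fx (mem_fx.1 (hUy u hu).2) k
  have haUc : ∀ k, U ≤ cm (z ^ k * y) := by
    intro k
    refine le_cm_of_inf_fx h0 (har k) ?_ ?_
    · intro u hu
      rw [haU k u hu]
      exact hUy u hu
    · rw [eq_bot_iff, ← hUf]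
      rintro u ⟨hu, hu2⟩
      refine ⟨hu, ?_⟩
      rw [SetLike.mem_coe, mem_fx] at hu2 ⊢
      rw [← haU k u hu]
      exact hu2
  have had : ∀ k, finrank F (cm (z ^ k * y)) = d := by
    intro k
    have h1 : z ^ k * y = x ^ k * y ^ (i * k + 1) := by rw [hzk, pow_succ, mul_assoc]
    rw [h1]
    apply hd
    rw [← h1]
    intro h3
    apply hi
    rw [eq_bot_iff]
    refine (haUc k).trans ?_
    rw [h3, cm, sub_self, LinearMap.range_zero]
  have hzd : finrank F (cm z) = d := by
    have h1 : z = x ^ 1 * y ^ i := by rw [pow_one]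
    rw [h1]
    apply hd
    rw [← h1]
    exact hz1
  have hed : e ≤ d := by
    rw [← had 0]
    exact hUe.trans (Submodule.finrank_mono (haUc 0))
  have hcomm : ∀ k, Commute z (z ^ k * y) := fun k => ((Commute.refl z).pow_right k).mul_right hzy
  -- the spaces `Y k`
  have hY : ∀ k, e ≤ finrank F ↥(cm z ⊓ fx (z ^ k * y)) := by
    intro k
    have h3 := finrank_inf_add h0 hzr (inv_cm_of_commute (hcomm k))
    have h4 := finrank_inf_add h0 (har k) (inv_cm_of_commute (hcomm k).symm)
    have h5 : finrank F U ≤ finrank F ↥(cm (z ^ k * y) ⊓ fx z) :=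
      Submodule.finrank_mono (le_inf (haUc k) inf_le_right)
    rw [inf_comm (cm z) (cm (z ^ k * y))] at h4
    rw [had k] at h3
    rw [hzd] at h4
    omega
  have hzf : cm z ⊓ fx z = ⊥ := by
    rw [inf_comm]; exact (isCompl_fx_cm h0 hzr).inf_eq_bot
  have hYY : ∀ k l, k < l → l ≤ 2 → ∀ v ∈ cm z, (z ^ k * y) v = v → (z ^ l * y) v = v → v = 0 := by
    intro k l hkl hl v hv h3 h4
    have h5 : (z ^ (l - k)) v = v := by
      conv_lhs => rw [← h3]
      rw [← Module.End.mul_apply, ← mul_assoc, ← pow_add, Nat.sub_add_cancel hkl.le]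
      exact h4
    have h6 : v ∈ fx z := fx_pow_le hr hzr (by omega) (by omega) (mem_fx.2 h5)
    have h7 : v ∈ cm z ⊓ fx z := ⟨hv, h6⟩
    rwa [hzf, Submodule.mem_bot] at h7
  have hsup : (cm z ⊓ fx (z ^ 0 * y)) ⊔ (cm z ⊓ fx (z ^ 1 * y)) = cm z := by
    refine Submodule.eq_of_le_of_finrank_le (sup_le inf_le_left inf_le_left) ?_
    rw [finrank_sup_of_disj, hzd]
    · have := hY 0
      have := hY 1
      omega
    · rw [eq_bot_iff]
      rintro v ⟨⟨hv1, hv2⟩, -, hv3⟩
      rw [Submodule.mem_bot]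
      exact hYY 0 1 (by norm_num) (by norm_num) v hv1 (mem_fx.1 hv2) (mem_fx.1 hv3)
  have hY2 : cm z ⊓ fx (z ^ 2 * y) ≠ ⊥ := by
    intro h
    have := hY 2
    rw [h, finrank_bot] at this
    omega
  obtain ⟨v, hv, hv0⟩ := Submodule.exists_mem_ne_zero_of_ne_bot hY2
  apply hv0
  obtain ⟨hvz, hv2⟩ := hv
  have hv' := hvz
  rw [← hsup] at hv'
  obtain ⟨v0, hv00, v1, hv11, hvv⟩ := Submodule.mem_sup.1 hv'
  obtain ⟨hv0z, hv0f⟩ := hv00
  obtain ⟨hv1z, hv1f⟩ := hv11
  rw [SetLike.mem_coe, mem_fx] at hv0f hv1f hv2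
  -- `y v - v = y v1 - v1`
  have hy0 : y v0 = v0 := by simpa using hv0f
  have hyc : ∀ k, ∀ w, (z ^ k * y) w = w → (z ^ k * y) (y w) = y w := by
    intro k w hw
    have h3 : (z ^ k * y) * y = y * (z ^ k * y) := by
      rw [← mul_assoc, ← (hzy.pow_left k).eq]
    rw [← Module.End.mul_apply, h3, Module.End.mul_apply, hw]
  have h3 : y v - v = y v1 - v1 := by
    rw [← hvv, map_add, hy0]; abel
  have h4 : (z ^ 2 * y) (y v - v) = y v - v := by rw [map_sub, hyc 2 v hv2, hv2]
  have h5 : (z ^ 1 * y) (y v - v) = y v - v := by rw [h3, map_sub, hyc 1 v1 hv1f, hv1f]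
  have h6 : y v - v ∈ cm z := (cm z).sub_mem (inv_cm_of_commute hzy.symm v hvz) hvz
  have h7 := hYY 1 2 (by norm_num) le_rfl _ h6 h5 h4
  have h8 : (z ^ 0 * y) v = v := by
    rw [pow_zero, one_mul]
    exact sub_eq_zero.1 h7
  exact hYY 0 2 (by norm_num) le_rfl v hvz h8 hv2

end Lin

section Grp

variable {T G : Type*} [Group T] [Group G] [Finite G]

omit [Finite G] in
/-- lifting elements of order `r` through a central kernel of order prime to `r` -/
theorem exists_lift {r : ℕ} (π : G →* T) (hπ : Function.Surjective π) (hr : r.Prime) (hrK : ¬ r ∣ Nat.card π.ker)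
    {x : T} (hx : x ^ r = 1) : ∃ g : G, π g = x ∧ g ^ r = 1 := by
  obtain ⟨g, rfl⟩ := hπ x
  have hco : Nat.Coprime (Nat.card π.ker) r := ((hr.coprime_iff_not_dvd).2 hrK).symm
  obtain ⟨l, -, hl⟩ := Nat.exists_mul_mod_eq_one_of_coprime hco hr.one_lt
  have h1 : g ^ r ∈ π.ker := by rw [MonoidHom.mem_ker, map_pow, hx]
  have h2 : (g ^ r) ^ Nat.card π.ker = 1 := by
    have : (⟨g ^ r, h1⟩ : π.ker) ^ Nat.card π.ker = 1 := pow_card_eq_one'
    exact congrArg Subtype.val this
  refine ⟨g ^ (Nat.card π.ker * l), ?_, ?_⟩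
  · rw [map_pow, ← Nat.div_add_mod (Nat.card π.ker * l) r, hl, pow_add, pow_mul, hx, one_pow, one_mul, pow_one]
  · rw [← pow_mul, mul_comm, pow_mul, pow_mul, h2, one_pow]

omit [Finite G] in
/-- **Cyclic primes of linear groups.** -/
theorem cycW_of {F : Type*} [Field F] {V : Type*} [AddCommGroup V] [Module F V] [FiniteDimensional F V] {r d e : ℕ}
    (π : G →* T) (hπ : Function.Surjective π) (hK : π.ker ≤ Subgroup.center G) (hr : r.Prime) (h2 : 2 < r)
    (h0 : (r : F) ≠ 0) (hrK : ¬ r ∣ Nat.card π.ker) (hrT : r ∣ Nat.card T)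
    (ρ : G →* Module.End F V) (hρ : Function.Injective ρ) (he : 0 < e) (hde : d ≤ 2 * e)
    (hd : ∀ g : G, g ^ r = 1 → g ≠ 1 → finrank F (cm (ρ g)) = d)
    (hU : ∀ g : G, g ^ r = 1 → ∀ U : Submodule F V, _root_.Cfsg.Agent.H951.Inv (ρ g) U → U ⊓ fx (ρ g) = ⊥ → U ≠ ⊥ → e ≤ finrank F U) :
    CycW T r := by
  refine ⟨hr, hrT, fun x y hx hy hxy => ?_⟩
  by_contra hn
  have hxr : x ^ r = 1 := hx ▸ pow_orderOf_eq_one x
  have hyr : y ^ r = 1 := hy ▸ pow_orderOf_eq_one y
  obtain ⟨a, rfl, har⟩ := exists_lift π hπ hr hrK hxr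
  obtain ⟨b, rfl, hbr⟩ := exists_lift π hπ hr hrK hyr
  -- `a` and `b` commute
  have hab : a * b = b * a := by
    have h3 : a * b * a⁻¹ * b⁻¹ ∈ π.ker := by
      rw [MonoidHom.mem_ker, map_mul, map_mul, map_mul, map_inv, map_inv, hxy]
      group
    have hcen := Subgroup.mem_center_iff.1 (hK h3)
    have h4 : a * b * a⁻¹ = (a * b * a⁻¹ * b⁻¹) * b := by group
    have h5 : (a * b * a⁻¹) ^ r = 1 := by rw [conj_pow, hbr, mul_one, mul_inv_cancel]
    have h6 : (a * b * a⁻¹ * b⁻¹) ^ r = 1 := by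
      have hc : Commute (a * b * a⁻¹ * b⁻¹) b := (hcen b).symm
      rw [h4, hc.mul_pow, hbr, mul_one] at h5
      exact h5
    have h7 : (⟨_, h3⟩ : π.ker) = 1 := by
      have h8 : orderOf (⟨_, h3⟩ : π.ker) ∣ r := orderOf_dvd_of_pow_eq_one (Subtype.ext h6)
      have h9 : orderOf (⟨_, h3⟩ : π.ker) ∣ Nat.card π.ker := orderOf_dvd_natCard _
      rcases (Nat.dvd_prime hr).1 h8 with h10 | h10
      · exact orderOf_eq_one_iff.1 h10
      · exact absurd (h10 ▸ h9) hrK
    have h8 : a * b * a⁻¹ * b⁻¹ = 1 := congrArg Subtype.val h7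
    rw [mul_inv_eq_one, mul_inv_eq_iff_eq_mul] at h8
    exact h8
  have hy1 : π b ≠ 1 := by
    intro h
    rw [h, orderOf_one] at hy
    exact hr.one_lt.ne hy
  have hx1 : π a ≠ 1 := by
    intro h
    rw [h, orderOf_one] at hx
    exact hr.one_lt.ne hx
  have key : ∀ i : ℕ, a * b ^ i ≠ 1 := by
    intro i h3
    apply hn
    have h4 : π a = (π b ^ i)⁻¹ := by
      rw [eq_inv_iff_mul_eq_one, ← map_pow, ← map_mul, h3, map_one]
    have h5 : Subgroup.zpowers (π a) ≤ Subgroup.zpowers (π b) := by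
      rw [Subgroup.zpowers_le, h4]
      exact inv_mem (Subgroup.npow_mem_zpowers _ _)
    have hfin : Finite (Subgroup.zpowers (π b)) := by
      apply Nat.finite_of_card_ne_zero
      rw [Nat.card_zpowers, hy]
      exact hr.ne_zero
    have h6 : Subgroup.zpowers (π a) = Subgroup.zpowers (π b) :=
      Subgroup.eq_of_le_of_card_ge h5 (by rw [Nat.card_zpowers, Nat.card_zpowers, hx, hy])
    rw [h6]
    exact Subgroup.mem_zpowers _
  have hρ1 : ∀ g : G, ρ g = 1 → g = 1 := fun g h => hρ (by rw [h, map_one])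
  refine no_rank_two (x := ρ a) (y := ρ b) hr h2 h0 (by rw [← map_pow, har, map_one])
    (by rw [← map_pow, hbr, map_one]) (show ρ a * ρ b = ρ b * ρ a by rw [← map_mul, ← map_mul, hab]) he hde
    ?_ (hU b hbr) ?_ ?_
  · intro i j hij
    rw [← map_pow, ← map_pow, ← map_mul] at hij ⊢
    refine hd _ ?_ fun h => hij (by rw [h, map_one])
    have hc : Commute (a ^ i) (b ^ j) := (show Commute a b from hab).pow_pow i j
    rw [hc.mul_pow, ← pow_mul, ← pow_mul, mul_comm i, mul_comm j, pow_mul, pow_mul, har, hbr, one_pow, one_pow,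
      one_mul]
  · intro h
    exact hy1 (by rw [hρ1 b h, map_one])
  · intro i h
    rw [← map_pow, ← map_mul] at h
    exact key i (hρ1 _ h)

end Grp

end Cfsg.Agent.H884.Cg
end
end
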